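import Cfsg.Agent.H439.Der.Tools
import Cfsg.Agent.AutOrth.Main
import Cfsg.Agent.H938.Sax.OrthGap
import Cfsg.Agent.H377.OddThree_m3
import Cfsg.Agent.Lib.FieldAutCard
import Cfsg.Agent.FastGrp
import Cfsg.Agent.Prune
set_option linter.all false
prune_inst 0x7fffb9fdfbbcfbdfffff7e77fe9efffdfbbbffffa4dff9cbffe261ff3bdf7b80d9cdf3ad9febd3fe1eb6423410ec7bc3fffffefff26fd87ffffd1ff45ffbffdfffffbd0851948c341ffc6ff693f07f8e7f3fffffffffffffffffffffffffffbeffbfffffffff
open scoped Cfsg.Agent.FastGrp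

-- part: H265/Der/Semi
section
/-!
# Automorphisms of `Ω_{2m+1}(q)` on elements of odd order (helper265, for S3500)

* `SemiAut Q` : every automorphism of `PΩ(Q)` comes from a semisimilarity; every element of `Ω(Q)` can be transported
* `Ty r x n` : `x` has a lift `g` with `g ^ r = 1` and exactly `n` fixed vectors; for odd `r` this is invariant under
  automorphisms (`Ty.map`), unique (`Ty.unique`)
-/

set_option autoImplicit false
set_option linter.unusedSectionVars false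

namespace Cfsg.Agent.H265.Der

open Cfsg Cfsg.Geo Cfsg.Agent.LieClassical.OrthCore Cfsg.Agent.H955
open Cfsg.Agent.LieClassical.OmegaReindex Cfsg.Agent.LieClassical.QuadForms
open scoped MatrixGroups Matrix

variable {ι : Type} [Fintype ι] [DecidableEq ι] {F : Type} [Field F] [Fintype F] {Q : QuadraticForm F (ι → F)}

/-- the matrix of an element of `Ω(Q)` -/
abbrev ac {Q : (ι → F) → F} (g : Omega F Q) : Matrix ι ι F := (((g : isometryGroup F Q) : GL ι F) : Matrix ι ι F)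

omit [Fintype F] in
theorem ac_mul {Q : (ι → F) → F} (g h : Omega F Q) : ac (g * h) = ac g * ac h := rfl

omit [Fintype F] in
theorem ac_one {Q : (ι → F) → F} : ac (1 : Omega F Q) = 1 := rfl

omit [Fintype F] in
theorem ac_pow {Q : (ι → F) → F} (g : Omega F Q) (n : ℕ) : ac (g ^ n) = ac g ^ n := by
  induction n with
  | zero => rw [pow_zero, pow_zero]; rfl
  | succ n ih => rw [pow_succ, pow_succ, ac_mul, ih]

omit [Fintype F] in
theorem ac_injective {Q : (ι → F) → F} : Function.Injective (ac (Q := Q)) := fun _ _ h =>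
  Subtype.ext (Subtype.ext (Units.ext h))

/-- every automorphism comes from a semisimilarity -/
def SemiAut (Q : (ι → F) → F) : Prop :=
  ∀ α : POmega F Q ≃* POmega F Q, ∃ (σ : F ≃+* F) (μ : F) (T : (ι → F) ≃+ (ι → F)), μ ≠ 0 ∧
    (∀ (c : F) (v : ι → F), T (c • v) = σ c • T v) ∧ (∀ v, Q (T v) = μ * σ (Q v)) ∧
    ∀ g : Omega F Q, ∃ g' : Omega F Q, (∀ v, ac g' *ᵥ T v = T (ac g *ᵥ v)) ∧
      α (QuotientGroup.mk g) = QuotientGroup.mk g'

omit [Fintype F] in
theorem quadOdd_eq (m : ℕ) : quadOdd m F = Cfsg.Agent.LieClassical.QuadForms.oddForm m F := by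
  apply DFunLike.coe_injective
  rw [coe_quadOdd, Cfsg.Agent.LieClassical.QuadForms.coe_oddForm]

omit [Fintype F] in
theorem quadOdd_eq' (m : ℕ) : quadOdd m F = Cfsg.Agent.LieClassical.OrthForms.oddForm m F := by
  apply DFunLike.coe_injective
  rw [coe_quadOdd, Cfsg.Agent.LieClassical.OrthForms.coe_oddForm]

theorem semiAut_odd {m : ℕ} (hm : 3 ≤ m) (h2 : (2 : F) ≠ 0) : SemiAut (⇑(quadOdd m F)) := by
  intro α
  have h1 : ∀ α : MulAut (POmega F ⇑(quadOdd m F)), AutOrth.Main.Ind (⇑(quadOdd m F)) α := by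
    rw [coe_quadOdd]
    exact AutOrth.Main.all_odd hm h2
  have hG : Cfsg.Agent.LieClassical.OrthTrans.Good (quadOdd m F) := by
    rw [quadOdd_eq]
    exact AutOrth.Main.good_odd (show 1 < m by omega) h2
  obtain ⟨σ, μ, T, ⟨hμ, hs, hQ⟩, hT⟩ := h1 α
  refine ⟨σ, μ, T, hμ, hs, hQ, fun g => ?_⟩
  have hM : AutOrth.SemiSim.IsSemi (quadOdd m F) T σ μ := ⟨hμ, hs, hQ⟩
  obtain ⟨g', hg'⟩ := (AutOrth.Main.oe hG).surjective (AutOrth.SemiSim.conjE hM (AutOrth.Main.oe hG g))
  have h3 : ∀ v, ac g' *ᵥ T v = T (ac g *ᵥ v) := by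
    intro v
    rw [← AutOrth.Main.oe_apply hG, ← AutOrth.Main.oe_apply hG, hg', AutOrth.SemiSim.conjE_apply]
  exact ⟨g', h3, hT g g' h3⟩

/-! ### lifts of odd order -/

theorem lift_eq (hD : H390.Lift.Data Q) {g g' : Omega F ⇑Q} {N : ℕ} (hN : Odd N) (h1 : g ^ N = 1) (h2 : g' ^ N = 1)
    (h : (QuotientGroup.mk g : POmega F ⇑Q) = QuotientGroup.mk g') : g = g' := by
  have h3 : g⁻¹ * g' ∈ Subgroup.center (Omega F ⇑Q) := QuotientGroup.eq.1 h
  have h4 := H390.Lift.center_sq hD _ h3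
  have h5 : g' = g * (g⁻¹ * g') := by group
  have h6 : Commute g (g⁻¹ * g') := (Subgroup.mem_center_iff.1 h3 g)
  have h7 : (g⁻¹ * g') ^ N = 1 := by
    have h8 := h2
    rw [h5, h6.mul_pow, h1, one_mul] at h8
    exact h8
  obtain ⟨j, hj⟩ := hN
  rw [hj, pow_succ, pow_mul, h4, one_pow, one_mul] at h7
  exact (inv_mul_eq_one.1 h7)

theorem exists_lift (hD : H390.Lift.Data Q) {x : POmega F ⇑Q} {N : ℕ} (hN : Odd N) (hx : orderOf x = N) :
    ∃ g : Omega F ⇑Q, (QuotientGroup.mk g : POmega F ⇑Q) = x ∧ orderOf g = N := by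
  obtain ⟨y, rfl⟩ := QuotientGroup.mk'_surjective (Subgroup.center (Omega F (⇑Q))) x
  obtain ⟨n, h1, h2⟩ := H938.Sax.exists_lift_odd (QuotientGroup.mk' (Subgroup.center (Omega F (⇑Q)))) (fun y hy =>
    H390.Lift.center_sq hD y ((QuotientGroup.eq_one_iff y).1 hy)) hN hx
  exact ⟨y ^ n, h1, h2⟩

/-! ### the number of fixed vectors -/

/-- the number of fixed vectors -/
noncomputable def fixn {Q : (ι → F) → F} (g : Omega F Q) : ℕ := Nat.card {v : ι → F // ac g *ᵥ v = v}

/-- `x` has a lift `g` with `g ^ r = 1` and `n` fixed vectors -/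
def Ty (r : ℕ) {Q : (ι → F) → F} (x : POmega F Q) (n : ℕ) : Prop :=
  ∃ g : Omega F Q, (QuotientGroup.mk g : POmega F Q) = x ∧ g ^ r = 1 ∧ fixn g = n

theorem Ty.unique (hD : H390.Lift.Data Q) {r : ℕ} (hr : Odd r) {x : POmega F ⇑Q} {n n' : ℕ} (h : Ty r x n)
    (h' : Ty r x n') : n = n' := by
  obtain ⟨g, h1, h2, rfl⟩ := h
  obtain ⟨g', h3, h4, rfl⟩ := h'
  rw [lift_eq hD hr h2 h4 (h1.trans h3.symm)]

omit [Fintype F] in
theorem pow_eq_one_of_semi {Q : (ι → F) → F} {T : (ι → F) ≃+ (ι → F)} {g g' : Omega F Q}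
    (h : ∀ v, ac g' *ᵥ T v = T (ac g *ᵥ v)) (k : ℕ) (v : ι → F) : ac (g' ^ k) *ᵥ T v = T (ac (g ^ k) *ᵥ v) := by
  induction k with
  | zero => rw [pow_zero, pow_zero, ac_one, Matrix.one_mulVec, Matrix.one_mulVec]
  | succ k ih =>
    rw [pow_succ', pow_succ', ac_mul, ac_mul, ← Matrix.mulVec_mulVec, ih, h, Matrix.mulVec_mulVec]

omit [Fintype F] in
theorem eq_one_of_act {Q : (ι → F) → F} {g : Omega F Q} (h : ∀ v, ac g *ᵥ v = v) : g = 1 := by
  apply ac_injective
  rw [ac_one]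
  apply Matrix.ext_of_mulVec_single
  intro i
  rw [h, Matrix.one_mulVec]

theorem Ty.map (hS : SemiAut (⇑Q)) {r : ℕ} {x : POmega F ⇑Q} {n : ℕ} (h : Ty r x n)
    (α : POmega F ⇑Q ≃* POmega F ⇑Q) : Ty r (α x) n := by
  obtain ⟨g, rfl, h2, rfl⟩ := h
  obtain ⟨σ, μ, T, hμ, hs, hQ, hT⟩ := hS α
  obtain ⟨g', h3, h4⟩ := hT g
  refine ⟨g', h4.symm, ?_, ?_⟩
  · apply eq_one_of_act
    intro v
    obtain ⟨w, rfl⟩ := T.surjective v
    rw [pow_eq_one_of_semi h3, h2, ac_one, Matrix.one_mulVec]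
  · refine Nat.card_congr (Equiv.subtypeEquiv T.toEquiv.symm fun v => ?_)
    obtain ⟨w, rfl⟩ := T.surjective v
    change _ ↔ ac g *ᵥ T.symm (T w) = T.symm (T w)
    rw [h3, AddEquiv.symm_apply_apply, T.injective.eq_iff]

omit [Fintype F] in
theorem fix_pow {Q : (ι → F) → F} {g : Omega F Q} {v : ι → F} (h : ac g *ᵥ v = v) (k : ℕ) : ac (g ^ k) *ᵥ v = v := by
  induction k with
  | zero => rw [pow_zero, ac_one, Matrix.one_mulVec]
  | succ k ih => rw [pow_succ', ac_mul, ← Matrix.mulVec_mulVec, ih, h]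

theorem Ty.pow {r : ℕ} {x : POmega F ⇑Q} {n : ℕ} (h : Ty r x n) {k : ℕ} (hk : Nat.Coprime k r) (hr : 1 < r) :
    Ty r (x ^ k) n := by
  obtain ⟨g, rfl, h2, rfl⟩ := h
  refine ⟨g ^ k, rfl, ?_, ?_⟩
  · rw [← pow_mul, mul_comm, pow_mul, h2, one_pow]
  · obtain ⟨j, hj⟩ := Nat.exists_mul_mod_eq_one_of_coprime hk hr
    have h3 : (g ^ k) ^ j = g := by
      rw [← pow_mul, ← Nat.div_add_mod (k * j) r, hj.2, pow_add, pow_mul, h2, one_pow, one_mul, pow_one]
    refine Nat.card_congr (Equiv.subtypeEquivRight fun v => ⟨fun h => ?_, fun h => fix_pow h k⟩)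
    have h4 := fix_pow h j
    rwa [h3] at h4

end Cfsg.Agent.H265.Der
end

-- part: H265/Der/Eig
section
/-!
# Eigenvalues: `SC T v` implies `v - 1 ≤ |Aut F| * dim` (helper265, for S3500)
-/

set_option autoImplicit false

namespace Cfsg.Agent.H265.Der

open Cfsg Cfsg.Geo Cfsg.Agent.H439.Der Polynomial
open scoped MatrixGroups Matrix

section mat

variable {ι : Type} [Fintype ι] [DecidableEq ι] {F : Type*} [Field F]

theorem charpoly_semi {σ : F ≃+* F} {T : (ι → F) ≃+ (ι → F)} (hs : ∀ (c : F) (v : ι → F), T (c • v) = σ c • T v)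
    {A B : Matrix ι ι F} (h : ∀ v, B *ᵥ T v = T (A *ᵥ v)) : B.charpoly = A.charpoly.map (σ : F →+* F) := by
  let P : Matrix ι ι F := Matrix.of fun i j => T (Pi.single j 1) i
  have hP : ∀ v : ι → F, T v = P *ᵥ (fun i => σ (v i)) := by
    intro v
    have h1 : v = ∑ j, v j • (Pi.single j (1 : F) : ι → F) := by
      ext i
      simp [Finset.sum_apply, Pi.single_apply]
    conv_lhs => rw [h1]
    rw [map_sum]
    ext i
    rw [Finset.sum_apply, Matrix.mulVec, dotProduct]
    refine Finset.sum_congr rfl fun j _ => ?_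
    rw [hs, Pi.smul_apply, smul_eq_mul, mul_comm]
    rfl
  have hunit : IsUnit P := by
    rw [← Matrix.mulVec_surjective_iff_isUnit]
    intro y
    obtain ⟨v, rfl⟩ := T.surjective y
    exact ⟨_, (hP v).symm⟩
  obtain ⟨U, hU⟩ := hunit
  have h2 : B * P = P * A.map σ := by
    apply Matrix.ext_of_mulVec_single
    intro j
    rw [← Matrix.mulVec_mulVec, ← Matrix.mulVec_mulVec]
    have h3 : P *ᵥ (Pi.single j 1) = T (Pi.single j 1) := by
      rw [hP]
      congr 1
      ext i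
      by_cases hij : i = j
      · subst hij; simp
      · simp [hij]
    rw [h3, h, hP]
    congr 1
    ext i
    simp [Matrix.mulVec_single]
  have h3 : B = (U : Matrix ι ι F) * A.map σ * ((U⁻¹ : (Matrix ι ι F)ˣ) : Matrix ι ι F) := by
    rw [hU, ← h2, ← hU, mul_assoc, Units.mul_inv, mul_one]
  rw [h3, Matrix.coe_units_inv, Matrix.charpoly_units_conj]
  exact Matrix.charpoly_map A (σ : F →+* F)

theorem exists_eig {K : Type*} [Field K] [IsAlgClosed K] {B : Matrix ι ι K} {v : ℕ} (hv : v.Prime)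
    (hvF : (v : K) ≠ 0) (h1 : B ^ v = 1) (h2 : B ≠ 1) : ∃ l : K, orderOf l = v ∧ l ∈ spectrum K B := by
  have := Fact.mk hv
  let Φ : K[X] := ∑ i ∈ Finset.range v, X ^ i
  have hΦ : Φ * (X - 1) = X ^ v - 1 := geom_sum_mul X v
  have h3 : aeval B Φ * (B - 1) = 0 := by
    have h4 := congrArg (aeval B) hΦ
    rw [map_mul, map_sub, map_sub, map_pow, aeval_X, map_one, h1, sub_self] at h4
    exact h4
  have h5 : ¬ IsUnit (aeval B Φ) := by
    intro hu
    apply h2
    exact sub_eq_zero.1 ((hu.mul_right_eq_zero).1 h3)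
  have h6 : (0 : K) ∈ spectrum K (aeval B Φ) := by
    rw [spectrum.zero_mem_iff]
    exact h5
  have hdeg : 0 < Φ.degree := by
    have h7 : Φ.natDegree = v - 1 := by
      have h8 := congrArg natDegree hΦ
      have h9 : (X ^ v - 1 : K[X]).natDegree = v := by
        have := natDegree_X_pow_sub_C (n := v) (r := (1 : K))
        rwa [C_1] at this
      have h10 : (X - 1 : K[X]).natDegree = 1 := by
        have := natDegree_X_sub_C (1 : K)
        rwa [C_1] at this
      have h11 : (X - 1 : K[X]) ≠ 0 := by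
        intro h0
        rw [h0, natDegree_zero] at h10
        omega
      have h12 : Φ ≠ 0 := by
        rintro h0
        rw [h0, zero_mul, natDegree_zero, h9] at h8
        exact hv.ne_zero h8.symm
      rw [natDegree_mul h12 h11, h9, h10] at h8
      omega
    have := hv.one_lt
    exact natDegree_pos_iff_degree_pos.1 (by omega)
  rw [spectrum.map_polynomial_aeval_of_degree_pos B Φ hdeg] at h6
  obtain ⟨l, hl, hl0⟩ := h6
  have hl0' : Φ.eval l = 0 := hl0
  refine ⟨l, orderOf_eq_prime ?_ ?_, hl⟩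
  · have h7 := congrArg (eval l) hΦ
    rw [eval_mul, hl0', zero_mul, eval_sub, eval_pow, eval_X, eval_one] at h7
    exact (sub_eq_zero.1 h7.symm)
  · rintro rfl
    apply hvF
    rw [← hl0']
    simp [Φ, eval_finsetSum]

end mat

section sc

variable {ι : Type} [Fintype ι] [DecidableEq ι] {F : Type} [Field F] [Fintype F] {Q : QuadraticForm F (ι → F)}

/-- **Eigenvalue bound.** -/
theorem sc_bound (hS : SemiAut (⇑Q)) (hD : H390.Lift.Data Q) {v : ℕ} (hv : v.Prime) (hv2 : v ≠ 2) (hvF : (v : F) ≠ 0)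
    (hd : v ∣ Nat.card (POmega F ⇑Q)) (h : SC (POmega F ⇑Q) v) :
    v - 1 ≤ Nat.card (F ≃+* F) * Fintype.card ι := by
  classical
  have := Fact.mk hv
  obtain ⟨x, hx⟩ := exists_prime_orderOf_dvd_card' v hd
  have hodd : Odd v := hv.odd_of_ne_two hv2
  obtain ⟨g, rfl, hg⟩ := exists_lift hD hodd hx
  have hg1 : g ^ v = 1 := by rw [← hg]; exact pow_orderOf_eq_one g
  set K := AlgebraicClosure F
  let a : F →+* K := algebraMap F K
  set B : Matrix ι ι K := a.mapMatrix (ac g) with hB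
  have hBv : B ^ v = 1 := by
    rw [hB, ← map_pow, ← ac_pow, hg1, ac_one, map_one]
  have hB1 : B ≠ 1 := by
    intro h1
    have h2 : ac g = 1 := by
      have h3 : a.mapMatrix (ac g) = a.mapMatrix (1 : Matrix ι ι F) := by rw [← hB, h1, map_one]
      exact Matrix.map_injective a.injective h3
    have h3 : g = 1 := ac_injective (h2.trans ac_one.symm)
    rw [h3, orderOf_one] at hg
    exact hv.one_lt.ne hg
  have hvK : (v : K) ≠ 0 := by
    intro h0
    apply hvF
    apply a.injective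
    rw [map_natCast, map_zero]
    exact h0
  obtain ⟨l, hl, hlB⟩ := exists_eig hv hvK hBv hB1
  have : Finite (F ≃+* F) := Finite.of_injective (fun f : F ≃+* F => (f : F → F)) DFunLike.coe_injective
  have := Fintype.ofFinite (F ≃+* F)
  let R : (F ≃+* F) → Finset K := fun σ => (((ac g).charpoly.map (σ : F →+* F)).map a).roots.toFinset
  have hR : ∀ σ, (R σ).card ≤ Fintype.card ι := by
    intro σ
    refine (Multiset.toFinset_card_le _).trans ((card_roots' _).trans ?_)
    refine (natDegree_map_le).trans ((natDegree_map_le).trans ?_)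
    rw [Matrix.charpoly_natDegree_eq_dim]
  have hmem : ∀ k ∈ (Finset.range v).erase 0, l ^ k ∈ Finset.univ.biUnion R := by
    intro k hk
    rw [Finset.mem_erase, Finset.mem_range] at hk
    have hco : Nat.Coprime v k := (Nat.Prime.coprime_iff_not_dvd hv).2 fun h1 => by
      have := Nat.le_of_dvd (by omega) h1
      omega
    have hk2 : orderOf ((QuotientGroup.mk g : POmega F ⇑Q) ^ k) = v := by
      rw [Nat.Coprime.orderOf_pow (by rw [hx]; exact hco), hx]
    obtain ⟨φ, hφ⟩ := h _ _ (by rw [hx]) (show v ∣ orderOf ((QuotientGroup.mk g : POmega F ⇑Q) ^ k) by rw [hk2])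
    obtain ⟨σ, μ, T, -, hs, -, hT⟩ := hS φ
    obtain ⟨g', h1, h2⟩ := hT g
    have h3 : g' ^ v = 1 := by
      apply eq_one_of_act
      intro w
      obtain ⟨u, rfl⟩ := T.surjective w
      rw [pow_eq_one_of_semi h1, hg1, ac_one, Matrix.one_mulVec]
    have h4 : g' = g ^ k := lift_eq hD hodd h3 (by rw [← pow_mul, mul_comm, pow_mul, hg1, one_pow])
      (by rw [← h2, hφ]; rfl)
    subst h4
    have h5 := charpoly_semi hs h1
    rw [Finset.mem_biUnion]
    refine ⟨σ, Finset.mem_univ _, ?_⟩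
    have h6 : l ^ k ∈ spectrum K (B ^ k) := spectrum.pow_mem_pow B k hlB
    rw [Matrix.mem_spectrum_iff_isRoot_charpoly] at h6
    have h7 : (B ^ k).charpoly = ((ac g).charpoly.map (σ : F →+* F)).map a := by
      rw [← h5, hB, ← map_pow, ← ac_pow]
      exact Matrix.charpoly_map _ a
    rw [h7] at h6
    change l ^ k ∈ (((ac g).charpoly.map (σ : F →+* F)).map a).roots.toFinset
    rw [Multiset.mem_toFinset, mem_roots']
    refine ⟨?_, h6⟩
    exact ((((ac g).charpoly_monic).map _).map _).ne_zero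
  have hinj : Set.InjOn (fun k => l ^ k) ((Finset.range v).erase 0 : Finset ℕ) := by
    intro i hi j hj hij
    rw [Finset.mem_coe, Finset.mem_erase, Finset.mem_range] at hi hj
    exact pow_injOn_Iio_orderOf (by rw [Set.mem_Iio, hl]; exact hi.2) (by rw [Set.mem_Iio, hl]; exact hj.2) hij
  have h1 := Finset.card_le_card_of_injOn (fun k => l ^ k) hmem hinj
  rw [Finset.card_erase_of_mem (Finset.mem_range.2 hv.pos), Finset.card_range] at h1
  refine h1.trans (Finset.card_biUnion_le.trans ?_)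
  refine (Finset.sum_le_card_nsmul _ _ _ fun σ _ => hR σ).trans ?_
  rw [Finset.card_univ, smul_eq_mul, Nat.card_eq_fintype_card]

end sc

end Cfsg.Agent.H265.Der
end

-- part: H265/Der/Nsc
section
/-!
# No prime is `SC` for `Ω_{2m+1}(q)` (helper265, for S3500)
-/

set_option autoImplicit false

namespace Cfsg.Agent.H265.Der

open Cfsg Cfsg.Geo Cfsg.Agent.H439.Der Cfsg.Agent.LieClassical.OmegaReindex Cfsg.Agent.H94.PG

theorem three_pow {n : ℕ} (hn : 3 ≤ n) : 6 * n + 3 < 3 ^ n := by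
  induction n, hn using Nat.le_induction with
  | base => norm_num
  | succ n hn ih => rw [pow_succ]; omega

/-- **`NSC` for `Ω_{2m+1}(q)`.** -/
theorem nsc_odd {F : Type} [Field F] [Fintype F] {m : ℕ} (hm : 3 ≤ m) (hodd : Odd (Fintype.card F)) :
    NSC (POmega F (quadFormOdd m F)) := by
  intro v hv hd
  have ho : Odd (Nat.card F) := by rwa [Nat.card_eq_fintype_card]
  have h2 : (2 : F) ≠ 0 := H377.OOdd.two_ne_zero_of_odd ho
  have hfin : Finite (POmega F (quadFormOdd m F)) := Quotient.finite _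
  obtain ⟨p, hp⟩ := CharP.exists F
  have hpp : p.Prime := CharP.char_is_prime F p
  have := Fact.mk hpp
  obtain ⟨f, -, hf⟩ := FiniteField.card F p
  have hpF : p ∣ Nat.card F := by rw [Nat.card_eq_fintype_card, hf]; exact dvd_pow_self p f.ne_zero
  have hp2 : p ≠ 2 := by
    rintro rfl
    rw [hf, Nat.odd_pow_iff f.ne_zero] at hodd
    exact absurd hodd (by decide)
  have hp3 : 3 ≤ p := by
    have := hpp.two_le
    omega
  by_cases hv2 : v = 2
  · subst hv2
    obtain ⟨-, -, -, x, y, hx, hy, hxy⟩ := H377.OOdd.adj_two_of_char ho hm hpp hp2 hpF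
    exact not_SC_of_commute hv hpp hp2.symm hy hx hxy.symm
  by_cases hadj : Adj (POmega F (quadFormOdd m F)) v 2
  · obtain ⟨-, -, -, x, y, hx, hy, hxy⟩ := hadj
    exact not_SC_of_commute hv Nat.prime_two hv2 hx hy hxy
  obtain ⟨h3, -⟩ := H377.OOdd.info ho hm hv hv2 hd hadj
  have hvF : (v : F) ≠ 0 := by
    intro h0
    have h4 : p ∣ v := (CharP.cast_eq_zero_iff F p v).1 h0
    have h5 : p = v := (Nat.prime_dvd_prime_iff_eq hpp hv).1 h4
    subst h5
    have h6 : p ∣ Nat.card F ^ m := dvd_pow hpF (by omega)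
    rcases h3 with h3 | h3
    · have h7 := Nat.dvd_sub h6 h3
      have h8 : 1 ≤ Nat.card F ^ m := Nat.one_le_pow _ _ Nat.card_pos
      rw [show Nat.card F ^ m - (Nat.card F ^ m - 1) = 1 by omega] at h7
      exact hpp.one_lt.ne' (Nat.dvd_one.1 h7)
    · exact hpp.one_lt.ne' (Nat.dvd_one.1 ((Nat.dvd_add_right h6).1 h3))
  have hbig : ∀ h : SC (POmega F (quadFormOdd m F)) v, v - 1 ≤ f * (2 * m + 1) := by
    intro h
    have hS := semiAut_odd (F := F) hm h2
    have hD := H884.El.data_odd (F := F) hm h2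
    have h5 : ∀ (_ : v ∣ Nat.card (POmega F ⇑(quadOdd m F))) (_ : SC (POmega F ⇑(quadOdd m F)) v),
        v - 1 ≤ Nat.card (F ≃+* F) * Fintype.card (Unit ⊕ (Fin m ⊕ Fin m)) :=
      fun h6 h7 => sc_bound hS hD hv hv2 hvF h6 h7
    rw [coe_quadOdd] at h5
    have h8 := h5 hd h
    rw [Lib.FieldAutCard.card_ringAut f.pos hf, H884.El.card_odd] at h8
    exact h8
  have key : ∀ N : ℕ, v ∣ N → (∃ g : POmega F (quadFormOdd m F), orderOf g = N) → Nat.card F ^ m ≤ 2 * N + 1 →
      ¬ SC (POmega F (quadFormOdd m F)) v := by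
    rintro N hN ⟨g, hg⟩ hle hsc
    by_cases hne : N = v
    · subst hne
      have h4 := hbig hsc
      rw [Nat.card_eq_fintype_card, hf, ← pow_mul] at hle
      have hf1 : 1 ≤ (f : ℕ) := f.pos
      have h5 : (f : ℕ) * 3 ≤ f * m := Nat.mul_le_mul_left _ hm
      have h6 := three_pow (n := f * m) (by omega)
      have h7 : 3 ^ ((f : ℕ) * m) ≤ p ^ ((f : ℕ) * m) := Nat.pow_le_pow_left hp3 _
      have h8 : (f : ℕ) * (2 * m + 1) = 2 * (f * m) + f := by ring
      rw [h8] at h4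
      have := hv.one_lt
      omega
    · exact not_SC_of_orderOf hv (by rw [hg]; exact hN) (by rw [hg]; exact hne) hsc
  have hq : Odd (Nat.card F ^ m) := ho.pow
  obtain ⟨t, ht⟩ := hq
  have hco : Nat.Coprime v 2 := (Nat.coprime_primes hv Nat.prime_two).2 hv2
  rcases h3 with h3 | h3
  · have h4 : Nat.card F ^ m - 1 = 2 * t := by omega
    rw [h4] at h3
    refine key t (hco.dvd_of_dvd_mul_left h3) (H377.OOdd.exists_even_tor ho hm (ε := 1) ?_) (by omega)
    exact H377.elt_tor_plus (by omega) (by rw [h4])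
  · have h4 : Nat.card F ^ m + 1 = 2 * (t + 1) := by omega
    rw [h4] at h3
    refine key (t + 1) (hco.dvd_of_dvd_mul_left h3) (H377.OOdd.exists_even_tor ho hm (ε := -1) ?_) (by omega)
    exact H377.elt_tor_minus (by omega) (by rw [h4])

end Cfsg.Agent.H265.Der
end

-- part: H265/Der/Elts
section
/-!
# Elements of `Ω_{4k+1}(q)` of order `2r`, `r` a primitive prime of `q^(2k) - 1` (helper265, for S3500)

* `exists_A` : the `r`-part has fixed space of dimension `2k + 1`
* `exists_B` : the `r`-part has fixed space of dimension `1`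
-/

set_option autoImplicit false
set_option linter.unusedSectionVars false

namespace Cfsg.Agent.H265.Der

open Cfsg Cfsg.Geo Cfsg.Agent.H439.Der Cfsg.Agent.LieClassical.OmegaReindex Cfsg.Agent.H377
open Cfsg.Agent.LieClassical.OrthCore QuadraticMap
open Cfsg.Agent.H884.El (PP)
open scoped MatrixGroups Matrix

/-- **elements of `POmega` from isometries, with their action** -/
theorem exists_act {F : Type} [Field F] [Finite F] {ι : Type} [Fintype ι] [DecidableEq ι]
    (Q : QuadraticForm F (ι → F)) (hQ : Nondeg Q)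
    (h5 : 5 ≤ Fintype.card ι) {V : Type*} [AddCommGroup V] [Module F V] (Q' : V → F) (e : (ι → F) ≃ₗ[F] V)
    (c : F) (hc : c ≠ 0) (he : ∀ u, Q' (e u) = c * Q u) (T : Module.End F V) (hT : ∀ v, Q' (T v) = Q' v) (N : ℕ)
    (hN : ∀ j : ℕ, (T ^ (2 * j) = 1 ∨ T ^ (2 * j) = -1) ↔ N ∣ j) :
    ∃ z : Omega F ⇑Q, orderOf (QuotientGroup.mk z : POmega F ⇑Q) = N ∧
      ∀ (j : ℕ) (x : ι → F), ac (z ^ j) *ᵥ x = e.symm ((T ^ (2 * j)) (e x)) := by
  classical
  let φ : Module.End F V ≃ₐ[F] Matrix ι ι F := (e.symm.conjAlgEquiv F).trans LinearMap.toMatrixAlgEquiv'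
  have hφ : ∀ (S : Module.End F V) (x : ι → F), (φ S).mulVec x = e.symm (S (e x)) := by
    intro S x
    show (LinearMap.toMatrix' (e.symm.conj S)).mulVec x = _
    rw [LinearMap.toMatrix'_mulVec]
    rfl
  have hM : ∀ x, Q ((φ T).mulVec x) = Q x := by
    intro x
    apply mul_left_cancel₀ hc
    rw [← he, ← he, hφ, e.apply_symm_apply, hT]
  have hinj : ∀ x, (φ T).mulVec x = 0 → x = 0 := by
    intro x hx
    apply hQ
    intro y
    have h1 : polar Q ((φ T).mulVec x) ((φ T).mulVec y) = polar Q x y := by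
      rw [polar, polar, ← Matrix.mulVec_add, hM, hM, hM]
    rw [← h1, hx]
    simp [polar]
  have hunit : IsUnit (φ T) := by
    rw [← Matrix.mulVec_injective_iff_isUnit]
    intro x y hxy
    have h1 : (φ T).mulVec (x - y) = 0 := by
      rw [Matrix.mulVec_sub]
      exact sub_eq_zero.2 hxy
    exact sub_eq_zero.1 (hinj _ h1)
  obtain ⟨M, hM'⟩ := hunit
  have hmem : M ∈ isometryGroup F ⇑Q := by
    rw [Cfsg.Agent.LieClassical.OrthFinite.mem_isometryGroup_iff]
    intro x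
    rw [hM']
    exact hM x
  let g : isometryGroup F ⇑Q := ⟨M, hmem⟩
  let z : Omega F ⇑Q := ⟨g * g, mul_self_mem_Omega Q hQ h5 g⟩
  have hz : ∀ j : ℕ, ac (z ^ j) = φ (T ^ (2 * j)) := by
    intro j
    rw [ac_pow, map_pow, ← hM', pow_mul, pow_two]
    rfl
  have hs : ∃ u : ι → F, u ≠ 0 ∧ Q u = 0 := by
    obtain ⟨w, -, h1, h2⟩ := Cfsg.Agent.LieClassical.OrthFinite.exists_sing_mem (Q := Q) (⊤ : Submodule F (ι → F)) (by
      rw [finrank_top, Module.finrank_fintype_fun_eq_card]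
      omega)
    exact ⟨w, h1, h2⟩
  refine ⟨z, orderOf_eq_of_forall fun j => ?_, fun j x => by rw [hz, hφ]⟩
  rw [← QuotientGroup.mk_pow, QuotientGroup.eq_one_iff,
    Cfsg.Agent.LieClassical.OrthCenter.mem_center_omega_iff (nondegenerate_of_nondeg hQ) (by omega) hs]
  change (ac (z ^ j) = 1 ∨ ac (z ^ j) = -1) ↔ _
  rw [hz, ← hN]
  constructor
  · rintro (h | h)
    · left; apply φ.injective; rw [h, map_one]
    · right; apply φ.injective; rw [h, map_neg, map_one]
  · rintro (h | h)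
    · left; rw [h, map_one]
    · right; rw [h, map_neg, map_one]

/-- an element of order a primitive prime of `q ^ dim - 1` has no fixed vectors -/
theorem no_fix {F : Type} [Field F] [Fintype F] {V : Type*} [AddCommGroup V] [Module F V] [FiniteDimensional F V]
    {g : Module.End F V} {r e : ℕ} (hr : PP (Nat.card F) e r) (hV : Module.finrank F V = e) (hrF : (r : F) ≠ 0)
    (hg : g ^ r = 1) (hg1 : g ≠ 1) (v : V) (hv : g v = v) : v = 0 := by
  have := Fact.mk hr.prime
  have h1 : orderOf (Fintype.card F : ZMod r) ∣ Module.finrank F (H951.cm g) :=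
    H951.ord_dvd_finrank hg H951.inv_cm (by
      rw [inf_comm]; exact (H951.isCompl_fx_cm hrF hg).inf_eq_bot)
  rw [← Nat.card_eq_fintype_card, hr.ord] at h1
  have h2 : Module.finrank F (H951.fx g) + Module.finrank F (H951.cm g) = Module.finrank F V :=
    Submodule.finrank_add_eq_of_isCompl (H951.isCompl_fx_cm hrF hg)
  have h3 : Module.finrank F (H951.cm g) ≠ 0 := by
    intro h0
    apply hg1
    refine LinearMap.ext fun w => ?_
    have h4 : g w - w ∈ H951.cm g := H951.mem_cm.2 ⟨w, rfl⟩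
    rw [Submodule.finrank_eq_zero.1 h0, Submodule.mem_bot] at h4
    exact sub_eq_zero.1 h4
  have h4 := Nat.le_of_dvd (by omega) h1
  have h5 : Module.finrank F (H951.fx g) = 0 := by omega
  have h6 : v ∈ H951.fx g := H951.mem_fx.2 hv
  rw [Submodule.finrank_eq_zero.1 h5, Submodule.mem_bot] at h6
  exact h6

section ex

variable {F : Type} [Field F] [Fintype F]

/-- elements of `Ω_{4k+1}(q)` from isometries in dimension `4k` -/
theorem exists_of_pair (h2 : (2 : F) ≠ 0) {k : ℕ} (hk : 2 ≤ k) {Q₁ Q₂ : QuadraticForm F (Fin (2 * k) → F)}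
    (hQ₁ : Nondeg Q₁) (hQ₂ : Nondeg Q₂) (S : Module.End F ((Fin (2 * k) → F) × (Fin (2 * k) → F)))
    (hS : ∀ v, sumQ Q₁ Q₂ (S v) = sumQ Q₁ Q₂ v) {N : ℕ} (hN : ∀ j : ℕ, S ^ (2 * j) = 1 ↔ N ∣ j) :
    ∃ z : Omega F ⇑(quadOdd (2 * k) F), orderOf (QuotientGroup.mk z : POmega F ⇑(quadOdd (2 * k) F)) = N ∧
      (∀ j, N ∣ j → z ^ j = 1) ∧
      ∀ j, fixn (z ^ j) = Nat.card {v : (Fin (2 * k) → F) × (Fin (2 * k) → F) // (S ^ (2 * j)) v = v} * Nat.card F := by
  let Q₀ : QuadraticForm F F := QuadraticMap.sq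
  have hQ₀ : Nondeg Q₀ := by
    intro x hx
    have h3 := hx 1
    simp only [polar, Q₀, QuadraticMap.sq_apply] at h3
    have h4 : 2 * x = 0 := by linear_combination h3
    exact (mul_eq_zero.1 h4).resolve_left h2
  have hR : Nondeg (sumQ (sumQ Q₁ Q₂) Q₀) := sumQ_nondeg (sumQ_nondeg hQ₁ hQ₂) hQ₀
  have hfr : Module.finrank F (((Fin (2 * k) → F) × (Fin (2 * k) → F)) × F) = 2 * (2 * k) + 1 := by
    rw [Module.finrank_prod, Module.finrank_prod, Module.finrank_fin_fun, Module.finrank_self]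
    ring
  obtain ⟨c, e, hc, he⟩ := exists_similar_odd hfr (sumQ (sumQ Q₁ Q₂) Q₀) hR
  have hpow : ∀ j : ℕ, ((S.prodMap (1 : Module.End F F) : Module.End F _) ^ j) =
      ((S ^ j).prodMap (1 : Module.End F F) : Module.End F _) := by
    intro j
    rw [prodMap_pow', one_pow]
  have hneg : ∀ j : ℕ, ((S.prodMap (1 : Module.End F F) : Module.End F _) ^ j) ≠ -1 := by
    intro j hj
    rw [hpow, prodMap_eq_neg_one_iff] at hj
    have h3 := LinearMap.congr_fun hj.2 (1 : F)
    change (1 : F) = -1 at h3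
    apply h2
    linear_combination h3
  obtain ⟨z, hz1, hz2⟩ := exists_act (quadOdd (2 * k) F) (H955.nondeg_iff.2 (quadOdd_nondegenerate h2))
    (by rw [H884.El.card_odd]; omega) (⇑(sumQ (sumQ Q₁ Q₂) Q₀)) e c hc (by rw [quadOdd_eq']; exact he)
    (S.prodMap (1 : Module.End F F)) (by
      intro v
      change sumQ Q₁ Q₂ (S v.1) + Q₀ v.2 = sumQ Q₁ Q₂ v.1 + Q₀ v.2
      rw [hS]) N (by
      intro j
      rw [← hN, or_iff_left (hneg _), hpow, prodMap_eq_one_iff]
      exact and_iff_left rfl)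
  have hz3 : ∀ (j : ℕ) (x), ac (z ^ j) *ᵥ x = x ↔ (S ^ (2 * j)) (e x).1 = (e x).1 := by
    intro j x
    rw [hz2, hpow, LinearMap.prodMap_apply, LinearEquiv.symm_apply_eq]
    constructor
    · intro h
      exact congrArg Prod.fst h
    · intro h
      exact Prod.ext h rfl
  refine ⟨z, hz1, fun j hj => ?_, fun j => ?_⟩
  · apply eq_one_of_act
    intro x
    rw [hz3, (hN j).2 hj]
    rfl
  · simp only [← Nat.card_prod]
    refine Nat.card_congr ((e.toEquiv.subtypeEquiv (q := fun v => (S ^ (2 * j)) v.1 = v.1) fun x => hz3 j x).trans ?_)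
    exact
      { toFun := fun v => (⟨v.1.1, v.2⟩, v.1.2)
        invFun := fun v => ⟨(v.1.1, v.2), v.1.2⟩
        left_inv := fun _ => rfl
        right_inv := fun _ => rfl }

variable {k r : ℕ}

theorem pp_odd (hk : 2 ≤ k) (hr : PP (Nat.card F) (2 * k) r) : Odd r := by
  have := hr.lt (by omega)
  exact hr.prime.odd_of_ne_two (by omega)

/-- the isometry of order `r` in dimension `2k` -/
theorem exists_g (hk : 2 ≤ k) (hr : PP (Nat.card F) (2 * k) r) :
    ∃ (Q₁ : QuadraticForm F (Fin (2 * k) → F)) (g : Module.End F (Fin (2 * k) → F)), Nondeg Q₁ ∧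
      (∀ v, Q₁ (g v) = Q₁ v) ∧ orderOf g = r ∧ ∀ v, (g ^ 2) v = v → v = 0 := by
  obtain ⟨-, Q₁, g, h1, -, h3, h4⟩ := elt_tor_minus (F := F) (k := k) (N := r) (by omega)
    (H938.Sax.dvd_pow_add_one Nat.card_pos (by omega) hr)
  have hodd := pp_odd hk hr
  refine ⟨Q₁, g, h1, h3, h4, fun v hv => ?_⟩
  have hgr : g ^ r = 1 := by rw [← h4]; exact pow_orderOf_eq_one g
  refine no_fix (F := F) hr (by rw [Module.finrank_fin_fun]) (hr.ne0 (by omega)) (g := g ^ 2) ?_ ?_ v hv
  · rw [← pow_mul, mul_comm 2 r, pow_mul, hgr, one_pow]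
  · intro h
    have h5 := orderOf_dvd_of_pow_eq_one h
    rw [h4] at h5
    have := Nat.le_of_dvd (by norm_num) h5
    have := hr.lt (by omega)
    omega

/-- **type A** -/
theorem exists_A (h2 : (2 : F) ≠ 0) (hk : 2 ≤ k) (hr : PP (Nat.card F) (2 * k) r) :
    ∃ z : Omega F ⇑(quadOdd (2 * k) F), orderOf (QuotientGroup.mk z : POmega F ⇑(quadOdd (2 * k) F)) = 2 * r ∧
      (z ^ (r + 1)) ^ r = 1 ∧ fixn (z ^ (r + 1)) = Nat.card F ^ (2 * k) * Nat.card F := by
  have hodd := pp_odd hk hr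
  obtain ⟨Q₁, g, hQ₁, hg, hgo, hgf⟩ := exists_g hk hr
  obtain ⟨-, Q₂, t, hQ₂, -, ht, hto⟩ := elt_four (F := F) hk (Or.inl rfl : (1 : ℤ) = 1 ∨ (1 : ℤ) = -1)
  have hN : ∀ j : ℕ, (g.prodMap t : Module.End F ((Fin (2 * k) → F) × (Fin (2 * k) → F))) ^ (2 * j) = 1 ↔
      2 * r ∣ j := by
    intro j
    rw [prodMap_pow', prodMap_eq_one_iff, ← orderOf_dvd_iff_pow_eq_one, ← orderOf_dvd_iff_pow_eq_one, hgo, hto]
    have hco : Nat.Coprime 2 r := Nat.coprime_two_left.2 hodd
    constructor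
    · rintro ⟨h1, h3⟩
      exact hco.mul_dvd_of_dvd_of_dvd (by omega) (hco.symm.dvd_of_dvd_mul_left h1)
    · rintro ⟨c, rfl⟩
      exact ⟨⟨4 * c, by ring⟩, ⟨r * c, by ring⟩⟩
  obtain ⟨z, h1, h3, h4⟩ := exists_of_pair h2 hk hQ₁ hQ₂ (g.prodMap t) (fun v => by
    rw [sumQ_apply, sumQ_apply, LinearMap.prodMap_apply, hg, ht]) hN
  have hr1 : Even (r + 1) := hodd.add_one
  refine ⟨z, h1, ?_, ?_⟩
  · rw [← pow_mul]
    refine h3 _ ?_
    obtain ⟨c, hc⟩ := hr1
    exact ⟨c, by rw [hc]; ring⟩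
  · rw [h4]
    congr 1
    have h5 : ∀ v : (Fin (2 * k) → F) × (Fin (2 * k) → F),
        ((g.prodMap t : Module.End F _) ^ (2 * (r + 1))) v = v ↔ v.1 = 0 := by
      intro v
      have h6 : g ^ (2 * (r + 1)) = g ^ 2 := by
        rw [show 2 * (r + 1) = r * 2 + 2 by ring, pow_add, pow_mul, ← hgo, pow_orderOf_eq_one, one_pow, one_mul]
      have h7 : t ^ (2 * (r + 1)) = 1 := by
        obtain ⟨c, hc⟩ := hr1
        rw [hc, show 2 * (c + c) = 4 * c by ring, pow_mul, ← hto, pow_orderOf_eq_one, one_pow]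
      rw [prodMap_pow', h6, h7, LinearMap.prodMap_apply]
      constructor
      · intro h
        exact hgf _ (congrArg Prod.fst h)
      · intro h
        refine Prod.ext ?_ rfl
        change (g ^ 2) v.1 = v.1
        rw [h, map_zero]
    rw [Nat.card_congr (Equiv.subtypeEquivRight h5)]
    have h8 : Nat.card (Fin (2 * k) → F) = Nat.card F ^ (2 * k) := by
      rw [Nat.card_fun, Nat.card_fin]
    rw [← h8]
    exact Nat.card_congr
      { toFun := fun v => v.1.2
        invFun := fun b => ⟨(0, b), rfl⟩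
        left_inv := fun v => Subtype.ext (Prod.ext v.2.symm rfl)
        right_inv := fun _ => rfl }

/-- **type B** -/
theorem exists_B (h2 : (2 : F) ≠ 0) (hk : 2 ≤ k) (hr : PP (Nat.card F) (2 * k) r) :
    ∃ z : Omega F ⇑(quadOdd (2 * k) F), orderOf (QuotientGroup.mk z : POmega F ⇑(quadOdd (2 * k) F)) = 2 * r ∧
      (z ^ (r + 1)) ^ r = 1 ∧ fixn (z ^ (r + 1)) = Nat.card F := by
  have hodd := pp_odd hk hr
  obtain ⟨Q₁, g, hQ₁, hg, hgo, hgf⟩ := exists_g hk hr
  have : Nonempty (Fin (2 * k)) := ⟨⟨0, by omega⟩⟩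
  have hgr : g ^ r = 1 := by rw [← hgo]; exact pow_orderOf_eq_one g
  let S : Module.End F ((Fin (2 * k) → F) × (Fin (2 * k) → F)) :=
    (-(g.comp (LinearMap.snd F _ _))).prod (g.comp (LinearMap.fst F _ _))
  have hS : ∀ v, S v = (-(g v.2), g v.1) := fun _ => rfl
  have hS2 : S ^ 2 = ((-(g ^ 2)).prodMap (-(g ^ 2)) : Module.End F _) := by
    refine LinearMap.ext fun v => ?_
    rw [pow_two, Module.End.mul_apply, hS, hS, LinearMap.prodMap_apply, pow_two]
    refine Prod.ext rfl ?_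
    change g (-(g v.2)) = -(g (g v.2))
    rw [map_neg]
  have hSj : ∀ j : ℕ, S ^ (2 * j) = (((-(g ^ 2)) ^ j).prodMap ((-(g ^ 2)) ^ j) : Module.End F _) := by
    intro j
    rw [pow_mul, hS2, prodMap_pow']
  have hev : ∀ j : ℕ, Even j → (-(g ^ 2)) ^ j = g ^ (2 * j) := by
    intro j hj
    refine (Even.neg_pow hj (g ^ 2)).trans ?_
    rw [← pow_mul]
  have hod : ∀ j : ℕ, Odd j → (-(g ^ 2)) ^ j = -g ^ (2 * j) := by
    intro j hj
    refine (Odd.neg_pow hj (g ^ 2)).trans ?_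
    rw [← pow_mul]
  have hne : (1 : Module.End F (Fin (2 * k) → F)) ≠ -1 := by
    intro h
    have h3 := congrFun (LinearMap.congr_fun h (fun _ => (1 : F))) (Classical.arbitrary _)
    change (1 : F) = -1 at h3
    apply h2
    linear_combination h3
  have hN : ∀ j : ℕ, S ^ (2 * j) = 1 ↔ 2 * r ∣ j := by
    intro j
    rw [hSj, prodMap_eq_one_iff, and_self]
    have hco : Nat.Coprime 2 r := Nat.coprime_two_left.2 hodd
    constructor
    · intro h1
      rcases Nat.even_or_odd j with hj | hj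
      · rw [hev j hj, ← orderOf_dvd_iff_pow_eq_one, hgo] at h1
        exact hco.mul_dvd_of_dvd_of_dvd hj.two_dvd (hco.symm.dvd_of_dvd_mul_left h1)
      · exfalso
        rw [hod j hj] at h1
        have h3 : g ^ (2 * j) = -1 := by rw [← h1, neg_neg]
        have h4 := neg_one_pow_ne hodd hgr _ h3
        exact hne (h4.symm.trans h3)
    · rintro ⟨c, rfl⟩
      rw [hev _ ⟨r * c, by ring⟩, ← orderOf_dvd_iff_pow_eq_one, hgo]
      exact ⟨4 * c, by ring⟩
  obtain ⟨z, h1, h3, h4⟩ := exists_of_pair h2 hk hQ₁ hQ₁ S (fun v => by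
    rw [sumQ_apply, sumQ_apply, hS]
    change Q₁ (-(g v.2)) + Q₁ (g v.1) = _
    rw [QuadraticMap.map_neg, hg, hg, add_comm]) hN
  have hr1 : Even (r + 1) := hodd.add_one
  refine ⟨z, h1, ?_, ?_⟩
  · rw [← pow_mul]
    refine h3 _ ?_
    obtain ⟨c, hc⟩ := hr1
    exact ⟨c, by rw [hc]; ring⟩
  · rw [h4]
    have h5 : ∀ v : (Fin (2 * k) → F) × (Fin (2 * k) → F), (S ^ (2 * (r + 1))) v = v ↔ v = 0 := by
      intro v
      have h6 : g ^ (2 * (r + 1)) = g ^ 2 := by
        rw [show 2 * (r + 1) = r * 2 + 2 by ring, pow_add, pow_mul, hgr, one_pow, one_mul]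
      rw [hSj, hev _ hr1, h6, LinearMap.prodMap_apply]
      constructor
      · intro h
        exact Prod.ext (hgf _ (congrArg Prod.fst h)) (hgf _ (congrArg Prod.snd h))
      · rintro rfl
        refine Prod.ext ?_ ?_
        · exact map_zero (g ^ 2)
        · exact map_zero (g ^ 2)
    rw [Nat.card_congr (Equiv.subtypeEquivRight h5)]
    have : Unique {v : (Fin (2 * k) → F) × (Fin (2 * k) → F) // v = 0} := ⟨⟨⟨0, rfl⟩⟩, fun v => Subtype.ext v.2⟩
    rw [Nat.card_unique, one_mul]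

end ex

end Cfsg.Agent.H265.Der
end
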